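import Groth.Prelude.Def_LiftSq
import Groth.Prelude.Def_FibCat2

/-!
# Unique filling of squares is stable under composition and base change
-/

universe v u v₂ u₂ v₃ u₃ v₄ u₄

open CategoryTheory

namespace Groth.Agent.LiftStab

variable {C : Type u} [Category.{v} C] {𝒜 ℬ 𝒳 𝒴 𝒵 : BasedCategory.{v₂, u₂} C} {j : 𝒜 ⥤ᵇ ℬ}

lemma hom_ext' {P : BasedCategory.{v₂, u₂} C} {Q : BasedCategory.{v₃, u₃} C} {F G : P ⥤ᵇ Q} (α β : F ⟶ G) (h : ∀ a, α.toNatTrans.app a = β.toNatTrans.app a) : α = β := by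
  apply BasedNatTrans.homCategory.ext; ext a; exact h a

lemma app_congr {P : BasedCategory.{v₂, u₂} C} {Q : BasedCategory.{v₃, u₃} C} {F G : P ⥤ᵇ Q} {α β : F ⟶ G} (h : α = β) (a) : α.toNatTrans.app a = β.toNatTrans.app a := by
  rw [h]

/-- Whiskering an isomorphism. -/
def wR {P : BasedCategory.{v₂, u₂} C} {Q : BasedCategory.{v₃, u₃} C} {T : BasedCategory.{v₄, u₄} C} {F G : P ⥤ᵇ Q} (e : F ≅ G) (H : Q ⥤ᵇ T) : BasedFunctor.comp F H ≅ BasedFunctor.comp G H where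
  hom := BasedCategory.whiskerRight e.hom H
  inv := BasedCategory.whiskerRight e.inv H
  hom_inv_id := (LiftSq.whiskerRight_comp' _ _ _).symm.trans
    ((congrArg (BasedCategory.whiskerRight · H) e.hom_inv_id).trans (LiftSq.whiskerRight_id' _ _))
  inv_hom_id := (LiftSq.whiskerRight_comp' _ _ _).symm.trans
    ((congrArg (BasedCategory.whiskerRight · H) e.inv_hom_id).trans (LiftSq.whiskerRight_id' _ _))

/-- Whiskering an isomorphism on the left. -/
def wL {P : BasedCategory.{v₂, u₂} C} {Q : BasedCategory.{v₃, u₃} C} {T : BasedCategory.{v₄, u₄} C} (F : P ⥤ᵇ Q) {G H : Q ⥤ᵇ T} (e : G ≅ H) : BasedFunctor.comp F G ≅ BasedFunctor.comp F H where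
  hom := BasedCategory.whiskerLeft F e.hom
  inv := BasedCategory.whiskerLeft F e.inv
  hom_inv_id := (LiftSq.whiskerLeft_comp' _ _ _).symm.trans
    ((congrArg (BasedCategory.whiskerLeft F) e.hom_inv_id).trans (LiftSq.whiskerLeft_id' _ _))
  inv_hom_id := (LiftSq.whiskerLeft_comp' _ _ _).symm.trans
    ((congrArg (BasedCategory.whiskerLeft F) e.inv_hom_id).trans (LiftSq.whiskerLeft_id' _ _))

open LiftSq in
theorem comp {f : 𝒳 ⥤ᵇ 𝒴} {g : 𝒴 ⥤ᵇ 𝒵} (hf : LiftsUniquely j f) (hg : LiftsUniquely j g) :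
    LiftsUniquely j (BasedFunctor.comp f g) := by
  intro sq
  let sq₁ : Sq j g := ⟨BasedFunctor.comp sq.top f, sq.bot, sq.iso⟩
  refine ⟨?_, fun d d' => ?_⟩
  · obtain ⟨e⟩ := (hg sq₁).1
    obtain ⟨d⟩ := (hf ⟨sq.top, e.fn, e.isoTop⟩).1
    refine ⟨⟨d.fn, d.isoTop, e.isoBot ≪≫ wR d.isoBot g, ?_⟩⟩
    apply hom_ext'; intro a
    have h : d.isoBot.hom.toNatTrans.app (j.obj a) ≫ f.map (d.isoTop.hom.toNatTrans.app a) =
        e.isoTop.hom.toNatTrans.app a := app_congr d.w a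
    have h' : e.isoBot.hom.toNatTrans.app (j.obj a) ≫ g.map (e.isoTop.hom.toNatTrans.app a) =
        sq.iso.hom.toNatTrans.app a := app_congr e.w a
    refine Eq.trans ?_ h'
    change (e.isoBot.hom.toNatTrans.app (j.obj a) ≫ g.map (d.isoBot.hom.toNatTrans.app (j.obj a))) ≫
      g.map (f.map (d.isoTop.hom.toNatTrans.app a)) = _
    refine (Category.assoc _ _ _).trans (congrArg (e.isoBot.hom.toNatTrans.app (j.obj a) ≫ ·) ?_)
    exact (g.toFunctor.map_comp _ _).symm.trans (congrArg (g.toFunctor.map ·) h)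
  · let D : sq.Lift → sq₁.Lift := fun d =>
      ⟨BasedFunctor.comp d.fn f, wR d.isoTop f, d.isoBot, by
        apply hom_ext'; intro a
        exact app_congr d.w a⟩
    obtain ⟨uθ⟩ := (hg sq₁).2 (D d) (D d')
    obtain ⟨uθ'⟩ := (hg sq₁).2 (D d') (D d)
    obtain ⟨u0⟩ := (hg sq₁).2 (D d) (D d)
    obtain ⟨u1⟩ := (hg sq₁).2 (D d') (D d')
    let θ : D d ≅ D d' := ⟨uθ.default, uθ'.default, (u0.uniq _).trans (u0.uniq _).symm,
      (u1.uniq _).trans (u1.uniq _).symm⟩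
    let sq₂ : Sq j f := ⟨sq.top, BasedFunctor.comp d.fn f, (D d).isoTop⟩
    let E : sq₂.Lift := ⟨d.fn, d.isoTop, Iso.refl _, by
      apply hom_ext'; intro a
      exact Category.id_comp _⟩
    let E' : sq₂.Lift := ⟨d'.fn, d'.isoTop,
      ⟨θ.hom.hom, θ.inv.hom, congrArg Sq.Lift.Hom.hom θ.hom_inv_id, congrArg Sq.Lift.Hom.hom θ.inv_hom_id⟩,
      θ.hom.w_top⟩
    obtain ⟨uη⟩ := (hf sq₂).2 E E'
    refine ⟨⟨⟨⟨uη.default.hom, uη.default.w_top, ?_⟩⟩, fun η' => ?_⟩⟩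
    · apply hom_ext'; intro a
      have h : f.map (uη.default.hom.toNatTrans.app a) = θ.hom.hom.toNatTrans.app a :=
        (Category.id_comp _).symm.trans (app_congr uη.default.w_bot a)
      change d.isoBot.hom.toNatTrans.app a ≫ g.map (f.map (uη.default.hom.toNatTrans.app a)) = _
      rw [h]
      exact app_congr θ.hom.w_bot a
    · have hθ : (⟨BasedCategory.whiskerRight η'.hom f, by
          apply hom_ext'; intro a
          have : η'.hom.toNatTrans.app (j.obj a) ≫ d'.isoTop.hom.toNatTrans.app a =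
              d.isoTop.hom.toNatTrans.app a := app_congr η'.w_top a
          exact (f.toFunctor.map_comp _ _).symm.trans (congrArg (f.toFunctor.map ·) this), by
          apply hom_ext'; intro a
          exact app_congr η'.w_bot a⟩ : D d ⟶ D d') = θ.hom := uθ.uniq _
      let η'' : E ⟶ E' := ⟨η'.hom, η'.w_top, by
        have := congrArg Sq.Lift.Hom.hom hθ
        apply hom_ext'; intro a
        exact (Category.id_comp _).trans (app_congr this a)⟩
      apply Sq.Lift.hom_ext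
      show η''.hom = uη.default.hom
      exact congrArg Sq.Lift.Hom.hom (uη.uniq η'')

section cat

variable {E : Type*} [Category E]

lemma cat₁ {A B X Y : E} {yi : X ⟶ A} {yh : A ⟶ X} {s : X ⟶ Y} {e : A ⟶ B} {ft : B ⟶ Y} {fti : Y ⟶ B}
    (h : yi ≫ yh = 𝟙 X) (hw : yh ≫ s = e ≫ ft) (h' : ft ≫ fti = 𝟙 B) : yi ≫ e = s ≫ fti := by
  calc yi ≫ e = yi ≫ (e ≫ ft) ≫ fti := by rw [Category.assoc, h', Category.comp_id]
    _ = _ := by rw [← hw, Category.assoc, reassoc_of% h]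

lemma cat₂ {A B B' X X' : E} {a : A ⟶ B} {i : B ⟶ X} {s : X ⟶ X'} {t : B ⟶ B'} {i' : B' ⟶ X'}
    {at' : A ⟶ B'} (hat : at' = a ≫ t) (h : t ≫ i' = i ≫ s) : (a ≫ i) ≫ s = at' ≫ i' := by
  rw [hat, Category.assoc, Category.assoc, h]

lemma cat₃ {A B B' X X' : E} {yi : B ⟶ A} {yh : A ⟶ B} {i : B ⟶ X} {m : X ⟶ X'} {yh' : A ⟶ B'}
    {i' : B' ⟶ X'} {c : B ⟶ B'} (hc : c = yi ≫ yh') (h : yi ≫ yh = 𝟙 B) (h2 : (yh ≫ i) ≫ m = yh' ≫ i') :
    c ≫ i' = i ≫ m := by
  rw [hc, Category.assoc, ← h2, Category.assoc, reassoc_of% h]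

lemma cat₄ {A B B' S : E} {di : B ⟶ A} {dh : A ⟶ B} {dh' : A ⟶ B'} {t : B ⟶ S} {t' : B' ⟶ S} {s : A ⟶ S}
    (h : di ≫ dh = 𝟙 B) (h1 : dh ≫ t = s) (h2 : dh' ≫ t' = s) : (di ≫ dh') ≫ t' = t := by
  rw [Category.assoc, h2, ← h1, reassoc_of% h]

lemma cat₅ {A B B' : E} {di : B ⟶ A} {dh : A ⟶ B} {dh' : A ⟶ B'} {e : B ⟶ B'}
    (h : di ≫ dh = 𝟙 B) (h1 : dh ≫ e = dh') : e = di ≫ dh' := by
  rw [← h1, reassoc_of% h]

end cat

section bc

variable {𝒴' : BasedCategory.{v₂, u₂} C} {f : 𝒳 ⥤ᵇ 𝒴} {y : 𝒴' ⥤ᵇ 𝒴}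

open LiftSq

variable {F G : ℬ ⥤ᵇ FibCat.fp y f}

lemma fp_isHomLift (a : ℬ.obj) (φ : F.obj a ⟶ G.obj a)
    (h : 𝒴'.p.IsHomLift (𝟙 (ℬ.p.obj a)) φ.hom.fst) :
    (FibCat.fp y f).p.IsHomLift (𝟙 (ℬ.p.obj a)) φ :=
  (BasedFunctor.isHomLift_iff (FibCat.fpFst y f) _ _).1 h

/-- A morphism into a fibre product from its components. -/
def fpHom (α : BasedFunctor.comp F (FibCat.fpFst y f) ⟶ BasedFunctor.comp G (FibCat.fpFst y f))
    (β : BasedFunctor.comp F (FibCat.fpSnd y f) ⟶ BasedFunctor.comp G (FibCat.fpSnd y f))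
    (w : ∀ a, y.map (α.toNatTrans.app a) ≫ (G.obj a).obj.iso.hom =
      (F.obj a).obj.iso.hom ≫ f.map (β.toNatTrans.app a)) : F ⟶ G where
  app a := ObjectProperty.homMk ⟨α.toNatTrans.app a, β.toNatTrans.app a, w a⟩
  naturality a b g := by
    apply ObjectProperty.hom_ext
    apply Limits.CategoricalPullback.hom_ext
    · exact α.toNatTrans.naturality g
    · exact β.toNatTrans.naturality g
  isHomLift' a := fp_isHomLift a _ (α.isHomLift' a)

lemma fp_ext {α β : F ⟶ G}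
    (h₁ : ∀ a, (α.toNatTrans.app a).hom.fst = (β.toNatTrans.app a).hom.fst)
    (h₂ : ∀ a, (α.toNatTrans.app a).hom.snd = (β.toNatTrans.app a).hom.snd) : α = β := by
  apply hom_ext'; intro a
  apply ObjectProperty.hom_ext
  exact Limits.CategoricalPullback.hom_ext (h₁ a) (h₂ a)

theorem baseChange (hf : LiftsUniquely j f) : LiftsUniquely j (FibCat.fpFst y f) := by
  intro sq
  let top' := BasedFunctor.comp sq.top (FibCat.fpSnd y f)
  let mk : ∀ {bot : ℬ ⥤ᵇ 𝒴'} (_ : BasedFunctor.comp j bot ≅ BasedFunctor.comp sq.top (FibCat.fpFst y f)),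
      BasedFunctor.comp j (BasedFunctor.comp bot y) ≅ BasedFunctor.comp top' f := fun e =>
    wR e y ≪≫ wL sq.top (FibCat.fpIso y f)
  let sq' : Sq j f := ⟨top', BasedFunctor.comp sq.bot y, mk sq.iso⟩
  refine ⟨?_, fun d d' => ?_⟩
  · obtain ⟨e⟩ := (hf sq').1
    let L := FibCat.fpLift sq.bot e.fn e.isoBot
    have hw : ∀ a, y.map (sq.iso.hom.toNatTrans.app a) ≫ (sq.top.obj a).obj.iso.hom =
        e.isoBot.hom.toNatTrans.app (j.obj a) ≫ f.map (e.isoTop.hom.toNatTrans.app a) := fun a =>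
      (app_congr e.w a).symm
    have hw' : ∀ a, y.map (sq.iso.inv.toNatTrans.app a) ≫ e.isoBot.hom.toNatTrans.app (j.obj a) =
        (sq.top.obj a).obj.iso.hom ≫ f.map (e.isoTop.inv.toNatTrans.app a) := by
      intro a
      have h1 : f.map (e.isoTop.hom.toNatTrans.app a) ≫ f.map (e.isoTop.inv.toNatTrans.app a) = 𝟙 _ :=
        app_congr (wR e.isoTop f).hom_inv_id a
      have h2 : y.map (sq.iso.inv.toNatTrans.app a) ≫ y.map (sq.iso.hom.toNatTrans.app a) = 𝟙 _ :=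
        app_congr (wR sq.iso y).inv_hom_id a
      exact cat₁ h2 (hw a) h1
    refine ⟨⟨L, ⟨fpHom sq.iso.hom e.isoTop.hom hw, fpHom sq.iso.inv e.isoTop.inv hw',
      fp_ext (app_congr sq.iso.hom_inv_id) (app_congr e.isoTop.hom_inv_id),
      fp_ext (app_congr sq.iso.inv_hom_id) (app_congr e.isoTop.inv_hom_id)⟩, Iso.refl _, ?_⟩⟩
    apply hom_ext'; intro a
    exact Category.id_comp _
  · let snd' : sq.Lift → sq'.Lift := fun d =>
      ⟨BasedFunctor.comp d.fn (FibCat.fpSnd y f), wR d.isoTop (FibCat.fpSnd y f),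
        wR d.isoBot y ≪≫ wL d.fn (FibCat.fpIso y f), by
          apply hom_ext'; intro a
          have h : d.isoBot.hom.toNatTrans.app (j.obj a) ≫ (d.isoTop.hom.toNatTrans.app a).hom.fst =
              sq.iso.hom.toNatTrans.app a := app_congr d.w a
          change (y.map (d.isoBot.hom.toNatTrans.app (j.obj a)) ≫ (d.fn.obj (j.obj a)).obj.iso.hom) ≫
            f.map (d.isoTop.hom.toNatTrans.app a).hom.snd =
            y.map (sq.iso.hom.toNatTrans.app a) ≫ (sq.top.obj a).obj.iso.hom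
          rw [← h]
          exact cat₂ (y.toFunctor.map_comp _ _) (d.isoTop.hom.toNatTrans.app a).hom.w⟩
    obtain ⟨uψ⟩ := (hf sq').2 (snd' d) (snd' d')
    let α := d.isoBot.inv ≫ d'.isoBot.hom
    have hw : ∀ a, y.map (α.toNatTrans.app a) ≫ (d'.fn.obj a).obj.iso.hom =
        (d.fn.obj a).obj.iso.hom ≫ f.map (uψ.default.hom.toNatTrans.app a) := by
      intro a
      have h : (y.map (d.isoBot.hom.toNatTrans.app a) ≫ (d.fn.obj a).obj.iso.hom) ≫
          f.map (uψ.default.hom.toNatTrans.app a) =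
          y.map (d'.isoBot.hom.toNatTrans.app a) ≫ (d'.fn.obj a).obj.iso.hom := app_congr uψ.default.w_bot a
      have h2 : y.map (d.isoBot.inv.toNatTrans.app a) ≫ y.map (d.isoBot.hom.toNatTrans.app a) = 𝟙 _ :=
        app_congr (wR d.isoBot y).inv_hom_id a
      exact cat₃ (y.toFunctor.map_comp _ _) h2 h
    refine ⟨⟨⟨⟨fpHom α uψ.default.hom hw, ?_, ?_⟩⟩, fun η => ?_⟩⟩
    · refine fp_ext (fun a => ?_) (app_congr uψ.default.w_top)
      have h : d.isoBot.hom.toNatTrans.app (j.obj a) ≫ (d.isoTop.hom.toNatTrans.app a).hom.fst =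
          sq.iso.hom.toNatTrans.app a := app_congr d.w a
      have h' : d'.isoBot.hom.toNatTrans.app (j.obj a) ≫ (d'.isoTop.hom.toNatTrans.app a).hom.fst =
          sq.iso.hom.toNatTrans.app a := app_congr d'.w a
      change (d.isoBot.inv.toNatTrans.app (j.obj a) ≫ d'.isoBot.hom.toNatTrans.app (j.obj a)) ≫
        (d'.isoTop.hom.toNatTrans.app a).hom.fst = _
      exact cat₄ (app_congr d.isoBot.inv_hom_id (j.obj a)) h h'
    · change d.isoBot.hom ≫ (d.isoBot.inv ≫ d'.isoBot.hom) = _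
      rw [← Category.assoc, d.isoBot.hom_inv_id, Category.id_comp]
    · apply Sq.Lift.hom_ext
      let η' : snd' d ⟶ snd' d' := ⟨BasedCategory.whiskerRight η.hom (FibCat.fpSnd y f), by
        apply hom_ext'; intro a
        exact congrArg (fun φ => φ.hom.snd) (app_congr η.w_top a), by
        apply hom_ext'; intro a
        have h : d.isoBot.hom.toNatTrans.app a ≫ (η.hom.toNatTrans.app a).hom.fst =
            d'.isoBot.hom.toNatTrans.app a := app_congr η.w_bot a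
        change (y.map (d.isoBot.hom.toNatTrans.app a) ≫ (d.fn.obj a).obj.iso.hom) ≫
          f.map (η.hom.toNatTrans.app a).hom.snd =
          y.map (d'.isoBot.hom.toNatTrans.app a) ≫ (d'.fn.obj a).obj.iso.hom
        rw [← h]
        exact cat₂ (y.toFunctor.map_comp _ _) (η.hom.toNatTrans.app a).hom.w⟩
      refine fp_ext (fun a => ?_) (app_congr (congrArg Sq.Lift.Hom.hom (uψ.uniq η')))
      have h : d.isoBot.hom.toNatTrans.app a ≫ (η.hom.toNatTrans.app a).hom.fst =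
          d'.isoBot.hom.toNatTrans.app a := app_congr η.w_bot a
      change _ = d.isoBot.inv.toNatTrans.app a ≫ d'.isoBot.hom.toNatTrans.app a
      exact cat₅ (app_congr d.isoBot.inv_hom_id a) h

end bc

end Groth.Agent.LiftStab
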